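import Groth.Agent.GalOrbLib.PtIntegral
import Groth.Agent.GeomIntLib.Basic

/-!
# Geometrically pointwise integral points of the fibres, read on geometric points
-/

set_option backward.isDefEq.respectTransparency false
set_option backward.isDefEq.respectTransparency.types false

universe u

open CategoryTheory Limits AlgebraicGeometry TopologicalSpace

namespace GeomPtIntLib

variable {X Y : Scheme.{u}}

/-- The fibre of `f` through `x` is geometrically pointwise integral at `x`. -/
abbrev GP (f : X ⟶ Y) (x : X) : Prop :=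
  FBase.IsGeomPtIntegralAt (f.fiberToSpecResidueField (f.base x)) (f.asFiber x)

theorem isDomain_stalk_congr {A B : Scheme.{u}} (e : A ⟶ B) [IsOpenImmersion e] (a : A) :
    IsDomain (A.presheaf.stalk a) ↔ IsDomain (B.presheaf.stalk (e a)) :=
  ⟨fun h => (ConcreteCategory.bijective_of_isIso (e.stalkMap a)).1.isDomain (e.stalkMap a).hom,
    fun h => (ConcreteCategory.bijective_of_isIso (inv (e.stalkMap a))).1.isDomain (inv (e.stalkMap a)).hom⟩

theorem gp_iff_fiber (f : X ⟶ Y) (y : Y) (b : f.fiber y) :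
    GP f (f.fiberι y b) ↔ FBase.IsGeomPtIntegralAt (f.fiberToSpecResidueField y) b := by
  have key : ∀ (x : X) (y : Y), f.base x = y → ∀ b : f.fiber y, f.fiberι y b = x →
      (GP f x ↔ FBase.IsGeomPtIntegralAt (f.fiberToSpecResidueField y) b) := by
    rintro x _ rfl b hb
    obtain rfl : b = f.asFiber x := (f.fiberι _).isEmbedding.injective (by rw [hb, f.fiberι_asFiber])
    exact Iff.rfl
  exact key _ y ((f.range_fiberι y).le ⟨b, rfl⟩) b rfl

/-- A geometric point over `x` decides. -/
theorem gp_iff_geom (f : X ⟶ Y) {F : Type u} [Field F] [IsAlgClosed F] (p : Spec (CommRingCat.of F) ⟶ Y)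
    (a : ↥(pullback f p)) : GP f (pullback.fst f p a) ↔ IsDomain ((pullback f p).presheaf.stalk a) := by
  let s := p (IsLocalRing.closedPoint F)
  let φ : Y.residueField s ⟶ CommRingCat.of F := Y.descResidueField (Scheme.stalkClosedPointTo p)
  have hp : Spec.map φ ≫ Y.fromSpecResidueField s = p :=
    Scheme.descResidueField_stalkClosedPointTo_fromSpecResidueField F Y p
  letI : Algebra (IsLocalRing.ResidueField ↑(Y.presheaf.stalk s)) F := φ.hom.toAlgebra
  let e : pullback f p ≅ pullback (f.fiberToSpecResidueField s)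
      (Spec.map (CommRingCat.ofHom (algebraMap (IsLocalRing.ResidueField ↑(Y.presheaf.stalk s)) F))) :=
    pullback.congrHom rfl hp.symm ≪≫ (pullbackLeftPullbackSndIso f (Y.fromSpecResidueField s) (Spec.map φ)).symm
  have hπ : f.fiberι s (pullback.fst (f.fiberToSpecResidueField s) _ (e.hom a)) = pullback.fst f p a := by
    have hm : (e.hom ≫ pullback.fst (f.fiberToSpecResidueField s) _) ≫ f.fiberι s = pullback.fst f p := by
      simp only [e, Iso.trans_hom, Iso.symm_hom, Category.assoc]
      erw [pullbackLeftPullbackSndIso_inv_fst f (Y.fromSpecResidueField s) (Spec.map φ)]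
      simp
    rw [← Scheme.Hom.comp_apply, ← Scheme.Hom.comp_apply, ← Category.assoc, hm]
  rw [← hπ, gp_iff_fiber, isDomain_stalk_congr e.hom a]
  exact GalOrbLib.isGeomPtIntegralAt_iff_isDomain (f.fiberToSpecResidueField s) F (e.hom a)

theorem exists_geom (f : X ⟶ Y) (x : X) :
    ∃ (F : Type u) (_ : Field F) (_ : IsAlgClosed F) (p : Spec (CommRingCat.of F) ⟶ Y) (a : ↥(pullback f p)),
      pullback.fst f p a = x := by
  let F := AlgebraicClosure (X.residueField x)
  let P : Spec (CommRingCat.of F) ⟶ X :=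
    Spec.map (CommRingCat.ofHom (algebraMap (X.residueField x) F)) ≫ X.fromSpecResidueField x
  refine ⟨F, inferInstance, inferInstance, P ≫ f, pullback.lift P (𝟙 _) (by simp) (IsLocalRing.closedPoint F), ?_⟩
  rw [← Scheme.Hom.comp_apply, pullback.lift_fst, Scheme.Hom.comp_apply]
  exact Scheme.fromSpecResidueField_apply _ _

/-- Invariance under base change. -/
theorem gp_of_isPullback {X' Y' : Scheme.{u}} {f : X ⟶ Y} {f' : X' ⟶ Y'} {g' : X' ⟶ X} {g : Y' ⟶ Y}
    (sq : IsPullback g' f' f g) (x' : X') : GP f' x' ↔ GP f (g' x') := by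
  obtain ⟨F, _, _, p, a, rfl⟩ := exists_geom f' x'
  let e : pullback f' p ≅ pullback f (p ≫ g) :=
    (((IsPullback.of_hasPullback f' p).flip.paste_vert sq.flip).flip).isoPullback
  have h : g' (pullback.fst f' p a) = pullback.fst f (p ≫ g) (e.hom a) := by
    rw [← Scheme.Hom.comp_apply, ← Scheme.Hom.comp_apply, IsPullback.isoPullback_hom_fst]
  rw [h, gp_iff_geom, gp_iff_geom, isDomain_stalk_congr e.hom a]

/-- Invariance under open immersions of the source. -/
theorem gp_comp {U : Scheme.{u}} (j : U ⟶ X) [IsOpenImmersion j] (f : X ⟶ Y) (x : U) :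
    GP (j ≫ f) x ↔ GP f (j x) := by
  obtain ⟨F, _, _, p, a, rfl⟩ := exists_geom (j ≫ f) x
  let m : pullback (j ≫ f) p ⟶ pullback f p := pullback.map _ _ _ _ j (𝟙 _) (𝟙 _) (by simp) (by simp)
  have hm : IsOpenImmersion m := inferInstanceAs (IsOpenImmersion (pullback.map _ _ _ _ j (𝟙 _) (𝟙 _) _ _))
  have h : j (pullback.fst (j ≫ f) p a) = pullback.fst f p (m a) := by
    rw [← Scheme.Hom.comp_apply, ← Scheme.Hom.comp_apply, pullback.lift_fst]
  rw [h, gp_iff_geom, gp_iff_geom, isDomain_stalk_congr m a]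

end GeomPtIntLib
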