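import Groth.Agent.GeomPtIntLib.Basic
import Groth.Agent.GISpreadLib.Cons
import Groth.Agent.DepthLib.GeomRedOpen

/-!
# Constructibility of the geometrically pointwise integral points of the fibres
-/

set_option backward.isDefEq.respectTransparency false
set_option backward.isDefEq.respectTransparency.types false

universe u

open CategoryTheory Limits AlgebraicGeometry TopologicalSpace Topology

namespace GeomPtIntLib

/-- A point in only one irreducible component. -/
def UC {α : Type u} [TopologicalSpace α] (a : α) : Prop :=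
  ∀ W ∈ irreducibleComponents α, ∀ W' ∈ irreducibleComponents α, a ∈ W → a ∈ W' → W = W'

theorem uc_homeo {α β : Type u} [TopologicalSpace α] [TopologicalSpace β] (e : α ≃ₜ β) {a : α} (h : UC a) :
    UC (e a) := by
  have key : ∀ W ∈ irreducibleComponents β, e ⁻¹' W ∈ irreducibleComponents α := fun W hW => by
    refine ⟨hW.1.preimage e.isOpenEmbedding (by
      obtain ⟨x, hx⟩ := hW.1.nonempty
      exact ⟨x, hx, e.surjective x⟩), fun V hV hle => ?_⟩
    have h2 : e '' V ⊆ W := hW.2 (hV.image e e.continuous.continuousOn)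
      (fun x hx => ⟨e.symm x, hle (show e (e.symm x) ∈ W by rwa [e.apply_symm_apply]), e.apply_symm_apply x⟩)
    exact fun x hx => h2 ⟨x, hx, rfl⟩
  intro W hW W' hW' haW haW'
  exact e.surjective.preimage_injective (h _ (key W hW) _ (key W' hW') haW haW')

theorem uc_iff_of_family {α : Type u} [TopologicalSpace α] {ι : Type u} [Finite ι] {P : ι → Set α}
    (hc : ∀ i, IsClosed (P i)) (hi : ∀ i, IsIrreducible (P i)) (hcov : ∀ x, ∃ i, x ∈ P i)
    (hirr : ∀ i j, P i ⊆ P j → i = j) (a : α) : UC a ↔ ∀ i j, i ≠ j → a ∉ P i ∩ P j := by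
  simp only [UC, GISpreadLib.irreducibleComponents_eq_range hc hi hcov hirr, Set.forall_mem_range]
  refine ⟨fun h i j hne ha => hne (hirr i j (h i j ha.1 ha.2).le), fun h i j hai haj => ?_⟩
  by_contra hne
  exact h i j (fun e => hne (e ▸ rfl)) ⟨hai, haj⟩

/-- A reduced local ring with one component is a domain. -/
theorem isDomain_stalk_iff {Z : Scheme.{u}} (a : Z) :
    IsDomain (Z.presheaf.stalk a) ↔ _root_.IsReduced (Z.presheaf.stalk a) ∧ UC a := by
  constructor
  · intro hd
    refine ⟨inferInstance, fun W hW W' hW' haW haW' => ?_⟩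
    have key : ∀ W (hW : W ∈ irreducibleComponents Z), a ∈ W →
        hW.1.genericPoint = EquidimLib.stalkPt a ⟨⊥, Ideal.isPrime_bot⟩ ∧ IsGenericPoint hW.1.genericPoint W := by
      intro W hW haW
      have hg := hW.1.isGenericPoint_genericPoint_closure
      rw [(isClosed_of_mem_irreducibleComponents W hW).closure_eq] at hg
      exact ⟨GeomIntLib.eq_of_isDomain a (fun z hz => GalOrbLib.eq_genericPoint_of_mem hW hz) (hg.specializes haW), hg⟩
    obtain ⟨e, hg⟩ := key W hW haW
    obtain ⟨e', hg'⟩ := key W' hW' haW'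
    rw [← hg.def, ← hg'.def, e, e']
  · rintro ⟨hred, huc⟩
    haveI := hred
    have key : ∀ p ∈ minimalPrimes (Z.presheaf.stalk a), ∃ q : PrimeSpectrum (Z.presheaf.stalk a), q.asIdeal = p ∧
        closure {EquidimLib.stalkPt a q} ∈ irreducibleComponents Z ∧ a ∈ closure {EquidimLib.stalkPt a q} := by
      intro p hp
      refine ⟨⟨p, hp.1.1⟩, rfl, GalOrbLib.closure_mem_components fun z hz => ?_,
        (EquidimLib.stalkPt_specializes a _).mem_closure⟩
      obtain ⟨r, rfl⟩ := EquidimLib.exists_stalkPt (hz.trans (EquidimLib.stalkPt_specializes a _))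
      have hle : r.asIdeal ≤ p := EquidimLib.le_of_stalkPt hz
      exact congrArg _ (PrimeSpectrum.ext (le_antisymm hle (hp.2 ⟨r.isPrime, bot_le⟩ hle)))
    obtain ⟨p, hp, -⟩ := Ideal.exists_minimalPrimes_le (J := IsLocalRing.maximalIdeal (Z.presheaf.stalk a)) (I := ⊥) bot_le
    have huniq : ∀ p' ∈ minimalPrimes (Z.presheaf.stalk a), p ≤ p' := fun p' hp' => by
      obtain ⟨q, rfl, hq, haq⟩ := key p hp
      obtain ⟨q', rfl, hq', haq'⟩ := key p' hp'
      have e := huc _ hq _ hq' haq haq'
      have e' := (isGenericPoint_closure (x := EquidimLib.stalkPt a q)).eq (by rw [e]; exact isGenericPoint_closure)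
      rw [EquidimLib.stalkPt_injective a e']
    have hbot : p = ⊥ := by
      refine le_bot_iff.mp ((show p ≤ nilradical (Z.presheaf.stalk a) from ?_).trans (nilradical_eq_zero _).le)
      rw [nilradical, Ideal.zero_eq_bot, ← Ideal.sInf_minimalPrimes]
      exact le_sInf huniq
    subst hbot
    haveI := hp.1.1
    exact IsDomain.of_bot_isPrime _

variable {X Y : Scheme.{u}}

/-- Geometric pointwise irreducibility. -/
def GU (f : X ⟶ Y) (x : X) : Prop :=
  ∀ (F : Type u) [Field F] [IsAlgClosed F] (p : Spec (CommRingCat.of F) ⟶ Y) (a : ↥(pullback f p)),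
    pullback.fst f p a = x → UC a

theorem gr_iff_fiber (f : X ⟶ Y) (y : Y) (b : f.fiber y) :
    FBase.IsGeomReducedAt (f.fiberToSpecResidueField (f.base (f.fiberι y b))) (f.asFiber (f.fiberι y b)) ↔
      FBase.IsGeomReducedAt (f.fiberToSpecResidueField y) b := by
  have key : ∀ (x : X) (y : Y), f.base x = y → ∀ b : f.fiber y, f.fiberι y b = x →
      (FBase.IsGeomReducedAt (f.fiberToSpecResidueField (f.base x)) (f.asFiber x) ↔
        FBase.IsGeomReducedAt (f.fiberToSpecResidueField y) b) := by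
    rintro x _ rfl b hb
    obtain rfl : b = f.asFiber x := (f.fiberι _).isEmbedding.injective (by rw [hb, f.fiberι_asFiber])
    exact Iff.rfl
  exact key _ y ((f.range_fiberι y).le ⟨b, rfl⟩) b rfl

theorem isReduced_stalk_geom (f : X ⟶ Y) {F : Type u} [Field F] (p : Spec (CommRingCat.of F) ⟶ Y)
    (a : ↥(pullback f p))
    (h : FBase.IsGeomReducedAt (f.fiberToSpecResidueField (f.base (pullback.fst f p a))) (f.asFiber (pullback.fst f p a))) :
    _root_.IsReduced ((pullback f p).presheaf.stalk a) := by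
  let s := p (IsLocalRing.closedPoint F)
  let φ : Y.residueField s ⟶ CommRingCat.of F := Y.descResidueField (Scheme.stalkClosedPointTo p)
  have hp : Spec.map φ ≫ Y.fromSpecResidueField s = p :=
    Scheme.descResidueField_stalkClosedPointTo_fromSpecResidueField F Y p
  letI : Algebra (IsLocalRing.ResidueField ↑(Y.presheaf.stalk s)) F := φ.hom.toAlgebra
  let e : pullback f p ≅ pullback (f.fiberToSpecResidueField s)
      (Spec.map (CommRingCat.ofHom (algebraMap (IsLocalRing.ResidueField ↑(Y.presheaf.stalk s)) F))) :=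
    pullback.congrHom rfl hp.symm ≪≫ (pullbackLeftPullbackSndIso f (Y.fromSpecResidueField s) (Spec.map φ)).symm
  have hπ : f.fiberι s (pullback.fst (f.fiberToSpecResidueField s) _ (e.hom a)) = pullback.fst f p a := by
    have hm : (e.hom ≫ pullback.fst (f.fiberToSpecResidueField s) _) ≫ f.fiberι s = pullback.fst f p := by
      simp only [e, Iso.trans_hom, Iso.symm_hom, Category.assoc]
      erw [pullbackLeftPullbackSndIso_inv_fst f (Y.fromSpecResidueField s) (Spec.map φ)]
      simp
    rw [← Scheme.Hom.comp_apply, ← Scheme.Hom.comp_apply, ← Category.assoc, hm]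
  rw [← hπ, gr_iff_fiber] at h
  haveI : _root_.IsReduced ((pullback (f.fiberToSpecResidueField s)
      (Spec.map (CommRingCat.ofHom (algebraMap (IsLocalRing.ResidueField ↑(Y.presheaf.stalk s)) F)))).presheaf.stalk (e.hom a)) :=
    h F (e.hom a) rfl
  exact isReduced_of_injective (asIso (e.hom.stalkMap a)).commRingCatIsoToRingEquiv.symm
    (asIso (e.hom.stalkMap a)).commRingCatIsoToRingEquiv.symm.injective

theorem gp_iff_gr_and_gu (f : X ⟶ Y) (x : X) :
    GP f x ↔ FBase.IsGeomReducedAt (f.fiberToSpecResidueField (f.base x)) (f.asFiber x) ∧ GU f x := by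
  constructor
  · refine fun h => ⟨GeomIntLib.isGeomReducedAt_of_integral f x h, fun F _ _ p a ha => ?_⟩
    subst ha
    exact ((isDomain_stalk_iff a).1 ((gp_iff_geom f p a).1 h)).2
  · rintro ⟨hr, hu⟩
    obtain ⟨F, _, _, p, a, rfl⟩ := exists_geom f x
    exact (gp_iff_geom f p a).2 ((isDomain_stalk_iff a).2 ⟨isReduced_stalk_geom f p a hr, hu F p a rfl⟩)

open GISpreadLib in
/-- A point of the special set is a point with nondomain local ring at a finite level. -/
theorem exists_witness {A : Type u} [CommRing A] {X : Scheme.{u}} (f : X ⟶ Spec (CommRingCat.of A))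
    (y : PrimeSpectrum A) {L : Type u} [Field L] [Algebra (A ⧸ y.asIdeal) L] [FaithfulSMul (A ⧸ y.asIdeal) L]
    {R' : Subalgebra (A ⧸ y.asIdeal) L} [Module.Finite (A ⧸ y.asIdeal) R'] (h' : R') (hh' : h' ≠ 0)
    (Z : irreducibleComponents ↥(BX (pullback.snd f (Spec.map (CommRingCat.ofHom (Ideal.Quotient.mk y.asIdeal)))) L) →
      Set ↥(BX (pullback.snd f (Spec.map (CommRingCat.ofHom (Ideal.Quotient.mk y.asIdeal)))) R'))
    [Finite ↥(irreducibleComponents ↥(BX (pullback.snd f (Spec.map (CommRingCat.ofHom (Ideal.Quotient.mk y.asIdeal)))) L))]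
    (hc : ∀ W, IsClosed (Z W))
    (hZL : ∀ W, (chgX (pullback.snd f (Spec.map (CommRingCat.ofHom (Ideal.Quotient.mk y.asIdeal)))) R' L).base ⁻¹' Z W = W.1)
    (hsub : (sndX (pullback.snd f (Spec.map (CommRingCat.ofHom (Ideal.Quotient.mk y.asIdeal)))) R').base ⁻¹'
      (PrimeSpectrum.basicOpen h' : Set (PrimeSpectrum R')) ⊆ ⋃ W, Z W)
    (x : X) (hxy : f x = y)
    (hxT : x ∈ (prX (pullback.snd f (Spec.map (CommRingCat.ofHom (Ideal.Quotient.mk y.asIdeal)))) R' ≫
      pullback.fst f _) '' ⋃ (W) (W') (_ : W ≠ W'), Z W ∩ Z W') :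
    ∃ (C : Type u) (_ : CommRing C) (_ : IsDomain C)
      (g : Spec (CommRingCat.of C) ⟶ Spec (CommRingCat.of A)) (_ : IsFinite g) (z : ↥(pullback f g)),
      pullback.fst f g z = x ∧ pullback.snd f g z = (⟨⊥, Ideal.isPrime_bot⟩ : PrimeSpectrum C) ∧
        ¬ IsDomain ((pullback f g).presheaf.stalk z) := by
  let q := Spec.map (CommRingCat.ofHom (Ideal.Quotient.mk y.asIdeal))
  let fR := pullback.snd f q
  let sR' := Spec.map (CommRingCat.ofHom (algebraMap (A ⧸ y.asIdeal) R'))
  obtain ⟨z, hz, hzx⟩ := hxT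
  simp only [Set.mem_iUnion] at hz
  obtain ⟨W₁, W₂, hne, hz₁, hz₂⟩ := hz
  let e : BX fR R' ≅ pullback f (sR' ≫ q) := pullbackLeftPullbackSndIso f q _
  haveI : IsClosedImmersion q := IsClosedImmersion.spec_of_surjective _ Ideal.Quotient.mk_surjective
  haveI : IsFinite sR' := (IsFinite.SpecMap_iff _).2 (RingHom.finite_algebraMap.2 inferInstance)
  let η : ↥(Spec (CommRingCat.of R')) := (⟨⊥, Ideal.isPrime_bot⟩ : PrimeSpectrum R')
  have hzη : sndX fR R' z = η := by
    have h1 : (sR' ≫ q) (sndX fR R' z) = y := by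
      refine Eq.trans ?_ ((congrArg f hzx).trans hxy)
      rw [← Scheme.Hom.comp_apply, ← Scheme.Hom.comp_apply]
      congr 1
      simp only [sndX, prX, sR', fR, Category.assoc, pullback.condition, q]
      rw [← pullback.condition_assoc]
    refine PrimeSpectrum.ext (Ideal.eq_bot_of_comap_eq_bot (R := A ⧸ y.asIdeal) ?_)
    refine le_bot_iff.1 fun r hr => ?_
    obtain ⟨r, rfl⟩ := Ideal.Quotient.mk_surjective r
    have h2 : r ∈ (show PrimeSpectrum A from (sR' ≫ q) (sndX fR R' z)).asIdeal := hr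
    rw [h1] at h2
    exact Ideal.Quotient.eq_zero_iff_mem.2 h2
  refine ⟨R', inferInstance, inferInstance, sR' ≫ q, inferInstance, e.hom z, ?_, ?_, fun hd => ?_⟩
  · rw [← hzx, ← Scheme.Hom.comp_apply]
    exact congrArg (fun φ : BX fR R' ⟶ X => φ z) (pullbackLeftPullbackSndIso_hom_fst f q _)
  · refine Eq.trans ?_ hzη
    rw [← Scheme.Hom.comp_apply]
    exact congrArg (fun φ : BX fR R' ⟶ _ => φ z) (pullbackLeftPullbackSndIso_hom_snd f q _)
  · have huc := ((isDomain_stalk_iff z).1 ((isDomain_stalk_congr e.hom z).2 hd)).2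
    obtain ⟨D, hD, hzD⟩ : ∃ D ∈ irreducibleComponents ↥(BX fR R'), z ∈ D :=
      ⟨_, irreducibleComponent_mem_irreducibleComponents z, mem_irreducibleComponent⟩
    have hrange : z ∈ Set.range (chgX fR R' L) := by
      rw [show chgX fR R' L = (BXIso fR R' L).inv ≫ prX (sndX fR R') L by rw [← BXIso_chgX, Iso.inv_hom_id_assoc],
        Scheme.Hom.comp_base, TopCat.coe_comp, Set.range_comp, Set.range_eq_univ.mpr (BXIso fR R' L).inv.surjective,
        Set.image_univ, Scheme.Pullback.range_fst, Set.mem_preimage, hzη]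
      refine ⟨IsLocalRing.closedPoint L, PrimeSpectrum.ext (Ideal.ext fun r => ?_)⟩
      show algebraMap R' L r ∈ IsLocalRing.maximalIdeal L ↔ r ∈ (⊥ : Ideal R')
      rw [IsLocalRing.maximalIdeal_eq_bot, Ideal.mem_bot, Ideal.mem_bot]
      exact map_eq_zero_iff _ Subtype.val_injective
    obtain ⟨c, rfl⟩ := hrange
    let O : Set ↥(BX fR R') := sndX fR R' ⁻¹' (PrimeSpectrum.basicOpen h' : Set (PrimeSpectrum R'))
    have hO : IsOpen O := (PrimeSpectrum.basicOpen h').isOpen.preimage (sndX fR R').continuous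
    have hzO : chgX fR R' L c ∈ O := by
      show sndX fR R' (chgX fR R' L c) ∈ PrimeSpectrum.basicOpen h'
      rw [hzη]
      exact fun hm => hh' hm
    have hDZ : D ⊆ ⋃ W, Z W := fun d hd => closure_minimal (Set.inter_subset_right.trans hsub)
      (isClosed_iUnion_of_finite hc) (subset_closure_inter_of_isPreirreducible_of_isOpen hD.1.isPreirreducible hO ⟨_, hzD, hzO⟩ hd)
    obtain ⟨W'', hW''⟩ : ∃ W'', D ⊆ Z W'' := by
      obtain ⟨_, hmem, h⟩ := isIrreducible_iff_sUnion_isClosed.mp hD.1 (Set.finite_range Z).toFinset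
        (fun z hz => by obtain ⟨W, rfl⟩ := (Set.Finite.mem_toFinset _).1 hz; exact hc W)
        (by rw [Set.Finite.coe_toFinset, Set.sUnion_range]; exact hDZ)
      obtain ⟨W'', rfl⟩ := (Set.Finite.mem_toFinset _).1 hmem
      exact ⟨W'', h⟩
    have key : ∀ W, chgX fR R' L c ∈ Z W → W = W'' := fun W hW => by
      have hcW : c ∈ W.1 := by rw [← hZL W]; exact hW
      obtain ⟨D', hD', hsub'⟩ := exists_mem_irreducibleComponents_subset_of_isIrreducible _
        (W.2.1.image _ (chgX fR R' L).continuous.continuousOn)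
      rw [huc D' hD' D hD (hsub' ⟨c, hcW, rfl⟩) hzD] at hsub'
      have hle : W.1 ⊆ W''.1 := fun w hw => by
        rw [← hZL W'']
        exact hW'' (hsub' ⟨w, hw, rfl⟩)
      exact Subtype.ext (le_antisymm hle (W.2.2 W''.2.1 hle))
    exact hne ((key W₁ hz₁).trans (key W₂ hz₂).symm)

open GISpreadLib in
/-- Near a point of the base, geometric pointwise irreducibility is cut out by a closed set. -/
theorem exists_nhd_gu {A : Type u} [CommRing A] {X : Scheme.{u}} (f : X ⟶ Spec (CommRingCat.of A))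
    [LocallyOfFiniteType f] [QuasiCompact f] (y : PrimeSpectrum A) :
    ∃ a : A, a ∉ y.asIdeal ∧ ∃ T : Set X, IsClosed T ∧
      (∀ x : X, y.asIdeal ≤ (show PrimeSpectrum A from f x).asIdeal → a ∉ (show PrimeSpectrum A from f x).asIdeal →
        (GU f x ↔ x ∉ T)) ∧
      ∀ x : X, f x = y → x ∈ T → ∃ (C : Type u) (_ : CommRing C) (_ : IsDomain C)
        (g : Spec (CommRingCat.of C) ⟶ Spec (CommRingCat.of A)) (_ : IsFinite g) (z : ↥(pullback f g)),
        pullback.fst f g z = x ∧ pullback.snd f g z = (⟨⊥, Ideal.isPrime_bot⟩ : PrimeSpectrum C) ∧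
          ¬ IsDomain ((pullback f g).presheaf.stalk z) := by
  let R := A ⧸ y.asIdeal
  let q : Spec (CommRingCat.of R) ⟶ Spec (CommRingCat.of A) := Spec.map (CommRingCat.ofHom (Ideal.Quotient.mk y.asIdeal))
  let fR := pullback.snd f q
  let L := AlgebraicClosure (FractionRing R)
  haveI : Algebra.IsAlgebraic R (FractionRing R) :=
    IsLocalization.isAlgebraic (FractionRing R) (nonZeroDivisors R)
  haveI : Algebra.IsAlgebraic R L := Algebra.IsAlgebraic.trans R (FractionRing R) L
  haveI : FaithfulSMul R L := (faithfulSMul_iff_algebraMap_injective _ _).mpr (by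
    rw [IsScalarTower.algebraMap_eq R (FractionRing R) L, RingHom.coe_comp]
    exact (algebraMap (FractionRing R) L).injective.comp (IsFractionRing.injective R _))
  obtain ⟨R', h', Z, hfin, hh', hc, hZL, hsub, H⟩ := exists_spreading fR L
  haveI : Finite ↥(irreducibleComponents ↥(BX fR L)) := (finite_components fR L).to_subtype
  haveI : FaithfulSMul R R' := (faithfulSMul_iff_algebraMap_injective _ _).mpr fun a b hab =>
    FaithfulSMul.algebraMap_injective R L (congrArg Subtype.val hab)
  haveI : Algebra.IsIntegral R R' := Algebra.IsIntegral.of_finite R R'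
  obtain ⟨h, hh, hdvd⟩ := (Algebra.IsAlgebraic.isAlgebraic (R := R) h').exists_nonzero_dvd
    (mem_nonZeroDivisors_of_ne_zero hh')
  obtain ⟨a, ha⟩ := Ideal.Quotient.mk_surjective h
  refine ⟨a, fun hay => hh (by rw [← ha]; exact Ideal.Quotient.eq_zero_iff_mem.mpr hay), ?_⟩
  let π := prX fR R' ≫ pullback.fst f q
  let S : Set ↥(BX fR R') := ⋃ (W) (W') (_ : W ≠ W'), Z W ∩ Z W'
  have hS : IsClosed S := isClosed_iUnion_of_finite fun W => isClosed_iUnion_of_finite fun W' =>
    isClosed_iUnion_of_finite fun _ => (hc W).inter (hc W')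
  haveI : IsIntegralHom (Spec.map (CommRingCat.ofHom (algebraMap R R'))) :=
    IsIntegralHom.SpecMap_iff.2 (algebraMap_isIntegral_iff.2 inferInstance)
  haveI : IsClosedImmersion q := IsClosedImmersion.spec_of_surjective _ Ideal.Quotient.mk_surjective
  have hπc : IsClosedMap π := π.isClosedMap
  refine ⟨π '' S, hπc _ hS, fun x hxy hxa => ?_, ?_⟩
  swap
  · exact exists_witness f y h' hh' Z hc hZL hsub
  have key : ∀ (F : Type u) [Field F] [IsAlgClosed F] [Algebra R F] [Algebra R' F] [IsScalarTower R R' F],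
      algebraMap R' F h' ≠ 0 → ∀ c : ↥(BX fR F), UC c ↔ chgX fR R' F c ∉ S := by
    intro F _ _ _ _ _ hF c
    obtain ⟨hirr, hcov, hred, -⟩ := H F hF
    have hcl : ∀ W, IsClosed ((chgX fR R' F).base ⁻¹' Z W) := fun W => (hc W).preimage (chgX fR R' F).continuous
    rw [uc_iff_of_family hcl hirr hcov hred c]
    simp only [S, Set.mem_iUnion, not_exists, Set.mem_inter_iff, Set.mem_preimage]
  have hchg : ∀ (F : Type u) [CommRing F] [Algebra R F] [Algebra R' F] [IsScalarTower R R' F] (c : ↥(BX fR F)),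
      π (chgX fR R' F c) = pullback.fst f q (prX fR F c) := fun F _ _ _ _ c => by
    rw [← Scheme.Hom.comp_apply, ← Category.assoc, chgX_fst, Scheme.Hom.comp_apply]
  constructor
  · rintro hu ⟨z, hz, hzx⟩
    let E := (BX fR R').residueField z
    let F := AlgebraicClosure E
    let P : Spec (CommRingCat.of F) ⟶ BX fR R' :=
      Spec.map (CommRingCat.ofHom (algebraMap E F)) ≫ (BX fR R').fromSpecResidueField z
    obtain ⟨φ, hφ⟩ := Spec.map_surjective (P ≫ sndX fR R')
    letI : Algebra R' F := φ.hom.toAlgebra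
    letI : Algebra R F := (φ.hom.comp (algebraMap R R')).toAlgebra
    haveI : IsScalarTower R R' F := IsScalarTower.of_algebraMap_eq fun _ => rfl
    have hRF : Spec.map (CommRingCat.ofHom (algebraMap R F)) =
        Spec.map φ ≫ Spec.map (CommRingCat.ofHom (algebraMap R R')) := by rw [← Spec.map_comp]; rfl
    let ζ : Spec (CommRingCat.of F) ⟶ BX fR F := pullback.lift (P ≫ prX fR R') (𝟙 _) (by
      rw [Category.id_comp, hRF, hφ]
      simp only [Category.assoc, sndX, prX, pullback.condition, P])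
    have hζ : ζ ≫ chgX fR R' F = P := by
      apply pullback.hom_ext
      · rw [Category.assoc, chgX_fst, pullback.lift_fst]
      · rw [Category.assoc]
        erw [chgX_snd]
        rw [pullback.lift_snd_assoc, Category.id_comp]
        exact hφ
    have hc' : chgX fR R' F (ζ (IsLocalRing.closedPoint F)) = z := by
      rw [← Scheme.Hom.comp_apply, hζ, Scheme.Hom.comp_apply]
      exact Scheme.fromSpecResidueField_apply _ _
    let c := ζ (IsLocalRing.closedPoint F)
    have hx0 : pullback.fst f q (prX fR F c) = x := by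
      rw [← hchg]
      exact (congrArg π hc').trans hzx
    have hF : algebraMap R' F h' ≠ 0 := fun h0 => by
      refine hxa ?_
      have h1 : algebraMap R F h = 0 := by
        obtain ⟨c, hc⟩ := hdvd
        rw [IsScalarTower.algebraMap_apply R R' F, hc, map_mul, h0, zero_mul]
      have h2 : f x = Spec.map (CommRingCat.ofHom ((algebraMap R F).comp (Ideal.Quotient.mk y.asIdeal)))
          (IsLocalRing.closedPoint F) := by
        rw [← hx0]
        simp only [c]
        rw [← Scheme.Hom.comp_apply, ← Scheme.Hom.comp_apply, ← Scheme.Hom.comp_apply]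
        congr 1
        rw [show ζ ≫ prX fR F ≫ pullback.fst f q ≫ f = (ζ ≫ prX fR F ≫ fR) ≫ q by
          simp only [fR, prX, Category.assoc, pullback.condition, pullback.condition_assoc], prX, pullback.condition, ← Category.assoc, pullback.lift_snd,
          Category.id_comp, ← Spec.map_comp]
        rfl
      rw [h2]
      show algebraMap R F (Ideal.Quotient.mk _ a) ∈ IsLocalRing.maximalIdeal F
      rw [ha, h1]
      exact zero_mem _
    let e : BX fR F ≅ pullback f (Spec.map (CommRingCat.ofHom (algebraMap R F)) ≫ q) := pullbackLeftPullbackSndIso f q _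
    have hx : pullback.fst f (Spec.map (CommRingCat.ofHom (algebraMap R F)) ≫ q) (e.hom c) = x := by
      rw [← hx0, ← Scheme.Hom.comp_apply, ← Scheme.Hom.comp_apply]
      exact congrArg (fun φ : BX fR F ⟶ X => φ c) (pullbackLeftPullbackSndIso_hom_fst f q _)
    have h3 := uc_homeo e.inv.homeomorph (hu F _ (e.hom c) hx)
    rw [show e.inv.homeomorph (e.hom c) = c by
      show e.inv (e.hom c) = c
      rw [← Scheme.Hom.comp_apply, e.hom_inv_id]; rfl] at h3
    exact (key F hF c).1 h3 (Eq.mpr (congrArg (· ∈ S) hc') hz)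
  · intro hxT F _ _ p b hb
    obtain ⟨ψ, hψ⟩ := Spec.map_surjective p
    have hpt : Spec.map ψ (IsLocalRing.closedPoint F) = f x := by
      rw [← hb, ← Scheme.Hom.comp_apply, pullback.condition, Scheme.Hom.comp_apply, hψ]
      congr 1
      exact Subsingleton.elim (α := PrimeSpectrum F) _ _
    have hmem : ∀ r : A, r ∈ (show PrimeSpectrum A from f x).asIdeal ↔ ψ.hom r = 0 := fun r => by
      rw [← hpt]
      show ψ.hom r ∈ IsLocalRing.maximalIdeal F ↔ _
      rw [IsLocalRing.maximalIdeal_eq_bot, Ideal.mem_bot]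
    letI : Algebra R F := (Ideal.Quotient.lift y.asIdeal ψ.hom fun r hr => (hmem r).1 (hxy hr)).toAlgebra
    obtain ⟨φ⟩ := exists_algHom_level (R := R) (R' := R') F
    letI := φ.toRingHom.toAlgebra
    haveI : IsScalarTower R R' F := IsScalarTower.of_algHom φ
    have hF : algebraMap R' F h' ≠ 0 := fun h0 => hxa ((hmem a).2 (by
      show algebraMap R F (Ideal.Quotient.mk _ a) = 0
      obtain ⟨c, hc⟩ := hdvd
      rw [ha, IsScalarTower.algebraMap_apply R R' F, hc, map_mul, h0, zero_mul]))
    have hp : p = Spec.map (CommRingCat.ofHom (algebraMap R F)) ≫ q := by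
      rw [← hψ, ← Spec.map_comp]
      congr 1
    subst hp
    let e : BX fR F ≅ pullback f (Spec.map (CommRingCat.ofHom (algebraMap R F)) ≫ q) := pullbackLeftPullbackSndIso f q _
    have h1 : chgX fR R' F (e.inv b) ∉ S := fun hm => hxT ⟨_, hm, by
      rw [hchg, ← Scheme.Hom.comp_apply, ← Scheme.Hom.comp_apply, ← hb]
      exact congrArg (fun φ : pullback f _ ⟶ X => φ b) (pullbackLeftPullbackSndIso_inv_fst f q _)⟩
    have h2 := uc_homeo e.hom.homeomorph ((key F hF (e.inv b)).2 h1)
    rwa [show e.hom.homeomorph (e.inv b) = b by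
      show e.hom (e.inv b) = b
      rw [← Scheme.Hom.comp_apply, e.inv_hom_id]; rfl] at h2

theorem isLocallyConstructible_gr (f : X ⟶ Y) [LocallyOfFinitePresentation f] :
    IsLocallyConstructible {x : X | FBase.IsGeomReducedAt (f.fiberToSpecResidueField (f.base x)) (f.asFiber x)} := by
  haveI : ∀ s : Y, LocallyOfFinitePresentation (f.fiberToSpecResidueField s) := fun s =>
    MorphismProperty.pullback_snd _ _ inferInstance
  have key := fun x : X => @DepthLib.geomReduced_iff _ _ _ (f.fiberToSpecResidueField (f.base x))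
    (‹∀ s : Y, LocallyOfFinitePresentation (f.fiberToSpecResidueField s)› (f.base x)) (f.asFiber x)
  simp only [key]
  exact (DepthLib.isLocallyConstructible_geomRk_fibre f 0).inter (DepthLib.isLocallyConstructible_hasSk_fibre f 1)

theorem isLocallyConstructible_gp_noetherian {A : Type u} [CommRing A] [IsNoetherianRing A] {X : Scheme.{u}}
    (f : X ⟶ Spec (CommRingCat.of A)) [LocallyOfFiniteType f] [QuasiCompact f] :
    IsLocallyConstructible {x : X | GP f x} := by
  haveI : IsLocallyNoetherian X := LocallyOfFiniteType.isLocallyNoetherian f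
  haveI : CompactSpace X := QuasiCompact.compactSpace_of_compactSpace f
  haveI : IsNoetherian X := {}
  haveI : LocallyOfFinitePresentation f := inferInstance
  simp only [gp_iff_gr_and_gu]
  refine (isLocallyConstructible_gr f).inter (GISpreadLib.isLocallyConstructible_of_nhd fun x => ?_)
  obtain ⟨a, ha, T, hT, hiff, -⟩ := exists_nhd_gu f (f x)
  let D : X.Opens := f ⁻¹ᵁ PrimeSpectrum.basicOpen a
  have hxD : x ∈ D := ha
  have key : ∀ x' ∈ D, x ⤳ x' → (GU f x' ↔ x' ∉ T) := fun x' hx' hsp =>
    hiff x' ((PrimeSpectrum.le_iff_specializes (f x : PrimeSpectrum A) (f x')).2 (hsp.map f.continuous)) hx'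
  by_cases hxT : x ∈ T
  · refine ⟨D, hxD, fun x' hx' hsp => ?_⟩
    show GU f x' ↔ GU f x
    rw [key x' hx' hsp, key x hxD (specializes_refl _)]
    exact iff_of_false (not_not.2 (hsp.mem_closed hT hxT)) (not_not.2 hxT)
  · refine ⟨D ⊓ ⟨Tᶜ, hT.isOpen_compl⟩, ⟨hxD, hxT⟩, fun x' hx' hsp => ?_⟩
    show GU f x' ↔ GU f x
    rw [key x' hx'.1 hsp, key x hxD (specializes_refl _)]
    exact iff_of_true hx'.2 hxT

/-- Composition with an open immersion of the base does not change the fibres. -/
theorem gp_comp_right {U Z : Scheme.{u}} (g : Z ⟶ U) (j : U ⟶ Y) [IsOpenImmersion j] (z : Z) :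
    GP (g ≫ j) z ↔ GP g z := by
  have sq : IsPullback (𝟙 Z) g (g ≫ j) j := IsPullback.of_horiz_isIso_mono ⟨by simp⟩
  exact (gp_of_isPullback sq z).symm

theorem isLocallyConstructible_gp_noetherian' (f : X ⟶ Y) [IsLocallyNoetherian Y] [LocallyOfFiniteType f]
    [QuasiCompact f] : IsLocallyConstructible {x : X | GP f x} := by
  refine GISpreadLib.isLocallyConstructible_of_cover fun x => ?_
  obtain ⟨U, hU, hxU⟩ := GISpreadLib.exists_affine_mem (f.base x)
  refine ⟨f ⁻¹ᵁ U, hxU, ?_⟩
  haveI : IsAffine U.toScheme := hU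
  haveI : IsNoetherianRing Γ(Y, U) := IsLocallyNoetherian.component_noetherian ⟨U, hU⟩
  let g : (f ⁻¹ᵁ U).toScheme ⟶ Spec (CommRingCat.of Γ(Y, U)) := (f ∣_ U) ≫ hU.isoSpec.hom
  haveI : LocallyOfFiniteType (f ∣_ U) := MorphismProperty.of_isPullback (isPullback_morphismRestrict f U).flip inferInstance
  haveI : QuasiCompact (f ∣_ U) := MorphismProperty.of_isPullback (isPullback_morphismRestrict f U).flip inferInstance
  convert isLocallyConstructible_gp_noetherian g using 1
  refine Set.ext fun v => ?_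
  exact ((gp_comp_right (f ∣_ U) hU.isoSpec.hom v).trans (gp_of_isPullback (isPullback_morphismRestrict f U).flip v)).symm

/-- The geometrically pointwise integral points of the fibres form a locally constructible set. -/
theorem isLocallyConstructible_gp (f : X ⟶ Y) [LocallyOfFinitePresentation f] :
    IsLocallyConstructible {x : X | GP f x} := by
  refine GISpreadLib.isLocallyConstructible_of_cover fun x => ?_
  obtain ⟨U, hU, hxU⟩ := GISpreadLib.exists_affine_mem (f.base x)
  obtain ⟨_, ⟨V₀, hV, rfl⟩, hxV, hVU⟩ :=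
    X.isBasis_affineOpens.exists_subset_of_mem_open (show x ∈ (f ⁻¹ᵁ U : Set X) from hxU) (f ⁻¹ᵁ U).isOpen
  let V : X.Opens := V₀
  refine ⟨V, hxV, ?_⟩
  haveI : IsAffine U.toScheme := hU
  haveI : IsAffine V.toScheme := hV
  let g : V.toScheme ⟶ U.toScheme := f.resLE U V hVU
  have hg : g ≫ U.ι = V.ι ≫ f := Scheme.Hom.resLE_comp_ι _ _
  haveI : LocallyOfFinitePresentation g := by
    have : LocallyOfFinitePresentation (g ≫ U.ι) := by rw [hg]; infer_instance
    exact MorphismProperty.of_isPullback (IsPullback.of_horiz_isIso_mono ⟨by simp⟩ : IsPullback (𝟙 _) g (g ≫ U.ι) U.ι) this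
  haveI : LocallyOfFinitePresentation (g ≫ 𝟙 U.toScheme) := by rwa [Category.comp_id]
  haveI : QuasiCompact (g ≫ 𝟙 U.toScheme) := by rw [Category.comp_id]; infer_instance
  haveI : QuasiSeparated (g ≫ 𝟙 U.toScheme) := by rw [Category.comp_id]; infer_instance
  obtain ⟨X₀, Y₀, S₀, f₀, g₀, q, pX, pY, _, _, _, _, _, -, hX₀⟩ :=
    ConsLib.exists_noetherian_model g (𝟙 U.toScheme)
  haveI : IsLocallyNoetherian Y₀ := LocallyOfFiniteType.isLocallyNoetherian g₀
  haveI : LocallyOfFiniteType f₀ := locallyOfFiniteType_of_comp f₀ g₀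
  haveI : QuasiSeparated g₀ := inferInstance
  haveI : QuasiCompact f₀ := QuasiCompact.of_comp f₀ g₀
  convert ConsLib.isLocallyConstructible_preimage pX (isLocallyConstructible_gp_noetherian' f₀) using 1
  refine Set.ext fun v => ?_
  show GP f (V.ι v) ↔ GP f₀ (pX v)
  rw [← gp_comp V.ι f v, ← hg, gp_comp_right g U.ι v, gp_of_isPullback hX₀ v]

end GeomPtIntLib
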