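import Groth.Agent.GeomPtIntLib.Cons
import Groth.Agent.DvrDom.Scheme
import Groth.Agent.RedFlatLib.Descent

/-!
# Openness of the geometrically pointwise integral points of the fibres
-/

set_option backward.isDefEq.respectTransparency false
set_option backward.isDefEq.respectTransparency.types false

universe u

open CategoryTheory Limits AlgebraicGeometry TopologicalSpace Topology

namespace GeomPtIntLib

theorem flat_specMap_of_injective {C F : Type u} [CommRing C] [IsDomain C] [Field F] (φ : C →+* F)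
    (h : Function.Injective φ) : Flat (Spec.map (CommRingCat.ofHom φ)) := by
  refine (HasRingHomProperty.Spec_iff (P := @Flat)).2 ?_
  show φ.Flat
  rw [show φ = (IsFractionRing.lift (K := FractionRing C) h).comp (algebraMap C (FractionRing C)) from
    RingHom.ext fun c => (IsFractionRing.lift_algebraMap h c).symm]
  refine RingHom.Flat.comp ?_ ?_
  · exact RingHom.flat_algebraMap_iff.2 (IsLocalization.flat (FractionRing C) (nonZeroDivisors C))
  · letI := (IsFractionRing.lift (K := FractionRing C) h).toAlgebra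
    exact RingHom.flat_algebraMap_iff.2 (inferInstanceAs (Module.Flat (FractionRing C) F))

/-- A finite level domain property of generizations. -/
theorem isDomain_stalk_of_specializes {A : Type u} [CommRing A] [IsNoetherianRing A] {X : Scheme.{u}}
    (f : X ⟶ Spec (CommRingCat.of A)) [LocallyOfFiniteType f] [Flat f] {C : Type u} [CommRing C] [IsDomain C]
    (g : Spec (CommRingCat.of C) ⟶ Spec (CommRingCat.of A)) [IsFinite g] (z : ↥(pullback f g))
    (hz : pullback.snd f g z = (⟨⊥, Ideal.isPrime_bot⟩ : PrimeSpectrum C)) {x : X}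
    (hsp : pullback.fst f g z ⤳ x) (hx : GP f x) : IsDomain ((pullback f g).presheaf.stalk z) := by
  let W := pullback f g
  let b : W ⟶ Spec (CommRingCat.of C) := pullback.snd f g
  haveI : IsLocallyNoetherian (Spec (CommRingCat.of C)) := LocallyOfFiniteType.isLocallyNoetherian g
  haveI : IsLocallyNoetherian W := LocallyOfFiniteType.isLocallyNoetherian b
  obtain ⟨z0, hz0, hz0x⟩ := (pullback.fst f g).isClosedMap.specializingMap hsp
  have hinj : ∀ {F : Type u} [Field F] (φ : CommRingCat.of C ⟶ CommRingCat.of F),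
      Spec.map φ (IsLocalRing.closedPoint F) = b z → Function.Injective φ.hom := fun {F} _ φ h => by
    refine (RingHom.injective_iff_ker_eq_bot _).2 (le_bot_iff.1 fun c hc => ?_)
    have h1 : c ∈ (show PrimeSpectrum C from Spec.map φ (IsLocalRing.closedPoint F)).asIdeal := by
      show φ.hom c ∈ IsLocalRing.maximalIdeal F
      rw [IsLocalRing.maximalIdeal_eq_bot, Ideal.mem_bot]
      exact hc
    rw [h, show b z = _ from hz] at h1
    exact h1
  by_cases hne : z0 = z
  · subst hne
    obtain ⟨F, _, _, p, a, ha⟩ := exists_geom b z0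
    obtain ⟨ψ, hψ⟩ := Spec.map_surjective p
    have hp : p (IsLocalRing.closedPoint F) = b z0 := by
      rw [← ha, ← Scheme.Hom.comp_apply, pullback.condition, Scheme.Hom.comp_apply]
      congr 1
      exact Subsingleton.elim (α := PrimeSpectrum F) _ _
    haveI : Flat p := hψ ▸ flat_specMap_of_injective ψ.hom (hinj ψ (by rw [hψ, hp]))
    have hgp : GP b z0 := (gp_of_isPullback (IsPullback.of_hasPullback f g) z0).2 (by rw [hz0x]; exact hx)
    rw [← ha] at hgp
    have := GalOrbLib.isDomain_stalk_of_flat (pullback.fst b p) a ((gp_iff_geom b p a).1 hgp)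
    rwa [ha] at this
  · obtain ⟨V, h, hV, hclosed, hgen⟩ := DvrDomLib.exists_dvr_through_specialization (𝟙 W) z z0 hz0 hne
    rw [Category.comp_id] at hgen
    let ρ := W.fromSpecResidueField z
    let i := Spec.map (CommRingCat.ofHom V.subtype)
    obtain ⟨ψ, hψ⟩ := Spec.map_surjective (i ≫ h ≫ b)
    haveI : Flat (i ≫ h ≫ b) := hψ ▸ flat_specMap_of_injective ψ.hom (hinj ψ (by
      rw [hψ, ← Category.assoc, hgen, Scheme.Hom.comp_apply]
      exact congrArg b (Scheme.fromSpecResidueField_apply _ _)))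
    let PV := pullback b (h ≫ b)
    let bV : PV ⟶ Spec (CommRingCat.of V) := pullback.snd b (h ≫ b)
    let σ : Spec (CommRingCat.of V) ⟶ PV := pullback.lift h (𝟙 _) (by simp)
    haveI : IsLocallyNoetherian PV := LocallyOfFiniteType.isLocallyNoetherian bV
    have hsq : IsPullback (pullback.fst b (h ≫ b) ≫ pullback.fst f g) bV f ((h ≫ b) ≫ g) :=
      (IsPullback.of_hasPullback b (h ≫ b)).paste_horiz (IsPullback.of_hasPullback f g)
    haveI := GeomIntLib.isDomain_fiber_baseChange f x hx hsq (σ (IsLocalRing.closedPoint V)) (by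
      rw [← Scheme.Hom.comp_apply, pullback.lift_fst_assoc, Scheme.Hom.comp_apply, hclosed, hz0x])
    have hd : IsDomain (PV.presheaf.stalk (σ (IsLocalRing.closedPoint V))) :=
      GeomIntLib.isDomain_stalk_dvr bV _ (Flat.stalkMap bV _)
    haveI : IsPreimmersion i :=
      IsPreimmersion.of_isLocalization (R := V) (S := W.residueField z) (nonZeroDivisors V)
    haveI : Flat i := flat_specMap_of_injective V.subtype Subtype.val_injective
    let PL := pullback b (i ≫ h ≫ b)
    let c : PL ⟶ PV := pullback.map _ _ _ _ (𝟙 _) i (𝟙 _) (by simp) (by simp)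
    have hc : IsPullback c (pullback.snd b (i ≫ h ≫ b)) bV i := by
      refine IsPullback.of_right ?_ (pullback.lift_snd _ _ _) (IsPullback.of_hasPullback b (h ≫ b))
      rw [show c ≫ pullback.fst b (h ≫ b) = pullback.fst b (i ≫ h ≫ b) from (pullback.lift_fst _ _ _).trans (Category.comp_id _)]
      exact IsPullback.of_hasPullback b _
    haveI : Flat c := MorphismProperty.of_isPullback hc.flip inferInstance
    haveI : IsPreimmersion c := MorphismProperty.of_isPullback hc.flip inferInstance
    let σL : Spec (CommRingCat.of (W.residueField z)) ⟶ PL := pullback.lift (i ≫ h) (𝟙 _) (by simp)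
    have hσ : σL ≫ c = i ≫ σ := by
      apply pullback.hom_ext <;> simp [σL, c, σ] <;> exact Category.id_comp i
    let a := σL (IsLocalRing.closedPoint (W.residueField z))
    have hd1 : IsDomain (PV.presheaf.stalk (c a)) := by
      have hsp' : c a ⤳ σ (IsLocalRing.closedPoint V) := by
        rw [← Scheme.Hom.comp_apply, hσ, Scheme.Hom.comp_apply]
        exact (IsLocalRing.specializes_closedPoint _).map σ.continuous
      exact hsp'.mem_open (GalOrbLib.isOpen_setOf_isDomain_stalk (Y := PV)) hd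
    have hd2 : IsDomain (PL.presheaf.stalk a) :=
      Function.Injective.isDomain (RingEquiv.ofBijective (c.stalkMap a).hom (SweepSix.FieldsRed.isIso_stalkMap c a)).symm.toRingHom
        (RingEquiv.injective _)
    have := GalOrbLib.isDomain_stalk_of_flat (pullback.fst b (i ≫ h ≫ b)) a hd2
    rwa [show pullback.fst b (i ≫ h ≫ b) a = z by
      rw [← Scheme.Hom.comp_apply, pullback.lift_fst, hgen]
      exact Scheme.fromSpecResidueField_apply _ _] at this

/-- Generization over a Noetherian affine base. -/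
theorem gp_of_specializes {A : Type u} [CommRing A] [IsNoetherianRing A] {X : Scheme.{u}}
    (f : X ⟶ Spec (CommRingCat.of A)) [LocallyOfFinitePresentation f] [QuasiCompact f] [Flat f] {x' x : X}
    (hsp : x' ⤳ x) (hx : GP f x) : GP f x' := by
  haveI : LocallyOfFiniteType f := inferInstance
  have hgr : FBase.IsGeomReducedAt (f.fiberToSpecResidueField (f.base x')) (f.asFiber x') :=
    (hsp.mem_open (DepthLib.isOpen_flat_geomReduced f) ⟨Flat.stalkMap f x, ((gp_iff_gr_and_gu f x).1 hx).1⟩).2
  refine (gp_iff_gr_and_gu f x').2 ⟨hgr, ?_⟩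
  obtain ⟨a, ha, T, hT, hiff, hwit⟩ := exists_nhd_gu f (f x')
  refine (hiff x' le_rfl ha).2 fun hxT => ?_
  obtain ⟨C, _, _, g, _, z, hzx, hzη, hz⟩ := hwit x' rfl hxT
  exact hz (isDomain_stalk_of_specializes f g z hzη (hzx ▸ hsp) hx)

/-- For flat morphisms locally of finite presentation the set is open. -/
theorem isOpen_gp {X Y : Scheme.{u}} (f : X ⟶ Y) [Flat f] [LocallyOfFinitePresentation f] :
    IsOpen {x : X | GP f x} := by
  refine isOpen_iff_forall_mem_open.2 fun x hx => ?_
  obtain ⟨U, hU, hxU⟩ := GISpreadLib.exists_affine_mem (f.base x)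
  obtain ⟨_, ⟨V₀, hV, rfl⟩, hxV, hVU⟩ :=
    X.isBasis_affineOpens.exists_subset_of_mem_open (show x ∈ (f ⁻¹ᵁ U : Set X) from hxU) (f ⁻¹ᵁ U).isOpen
  replace hV : IsAffineOpen V₀ := hV
  obtain ⟨φ, hφ⟩ : ∃ φ : Γ(Y, U) ⟶ Γ(X, V₀), Spec.map φ ≫ hU.fromSpec = hV.fromSpec ≫ f :=
    ⟨f.appLE U V₀ hVU, hU.SpecMap_appLE_fromSpec f hV hVU⟩
  let g := Spec.map φ
  have hgf : ∀ v, GP f (hV.fromSpec v) ↔ GP g v := fun v => by
    rw [← gp_comp hV.fromSpec f v, ← hφ, gp_comp_right g hU.fromSpec v]
  have hsq : IsPullback (𝟙 _) g (hV.fromSpec ≫ f) hU.fromSpec := IsPullback.of_horiz_isIso_mono ⟨by simp [g, hφ]⟩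
  haveI : Flat g := MorphismProperty.of_isPullback hsq inferInstance
  haveI : LocallyOfFinitePresentation g := MorphismProperty.of_isPullback hsq inferInstance
  letI : Algebra Γ(Y, U) Γ(X, V₀) := φ.hom.toAlgebra
  haveI : Algebra.FinitePresentation Γ(Y, U) Γ(X, V₀) :=
    RingHom.finitePresentation_algebraMap.mp ((HasRingHomProperty.Spec_iff (P := @LocallyOfFinitePresentation)).1 ‹_›)
  haveI : Module.Flat Γ(Y, U) Γ(X, V₀) :=
    RingHom.flat_algebraMap_iff.1 ((HasRingHomProperty.Spec_iff (P := @Flat)).1 ‹_›)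
  obtain ⟨A, B₀, _, _, _, _, _, _, _, -, ⟨e⟩⟩ := RedFlatLib.exists_flat_model_subring Γ(Y, U) Γ(X, V₀)
  let f₀ := Spec.map (CommRingCat.ofHom (algebraMap A B₀))
  haveI : Flat f₀ := (HasRingHomProperty.Spec_iff (P := @Flat)).2 (RingHom.flat_algebraMap_iff.2 inferInstance)
  haveI : LocallyOfFinitePresentation f₀ := (HasRingHomProperty.Spec_iff (P := @LocallyOfFinitePresentation)).2
    (RingHom.finitePresentation_algebraMap.mpr inferInstance)
  have hopen : IsOpen {w | GP f₀ w} := by
    have h1 := DepthLib.isOpen_inter_of_generization (O := Set.univ) isOpen_univ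
      (isLocallyConstructible_gp f₀) fun hsp _ hw => gp_of_specializes f₀ hsp hw
    rwa [Set.univ_inter] at h1
  let ee : Spec Γ(X, V₀) ≅ pullback f₀ (Spec.map (CommRingCat.ofHom (algebraMap A Γ(Y, U)))) :=
    Scheme.Spec.mapIso ((Algebra.TensorProduct.comm A B₀ Γ(Y, U)).toRingEquiv.trans e.toRingEquiv).toCommRingCatIso.op ≪≫
      (pullbackSpecIso A B₀ Γ(Y, U)).symm
  have hee : ee.hom ≫ pullback.snd f₀ _ = g := by
    simp only [ee, Iso.trans_hom, Iso.symm_hom, Functor.mapIso_hom, Category.assoc]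
    erw [pullbackSpecIso_inv_snd, ← Spec.map_comp]
    congr 1
    ext r
    exact e.commutes r
  have hsq₀ : IsPullback (ee.hom ≫ pullback.fst f₀ _) g f₀ (Spec.map (CommRingCat.ofHom (algebraMap A Γ(Y, U)))) :=
    IsPullback.of_iso_pullback ⟨by rw [Category.assoc, pullback.condition, reassoc_of% hee]⟩ ee rfl hee
  refine ⟨hV.fromSpec '' ((ee.hom ≫ pullback.fst f₀ _) ⁻¹' {w | GP f₀ w}), ?_,
    hV.fromSpec.isOpenEmbedding.isOpenMap _ (hopen.preimage (ee.hom ≫ pullback.fst f₀ _).continuous),
    hV.primeIdealOf ⟨x, hxV⟩, ?_, hV.fromSpec_primeIdealOf ⟨x, hxV⟩⟩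
  · rintro _ ⟨v, hv, rfl⟩
    exact (hgf v).2 ((gp_of_isPullback hsq₀ v).2 hv)
  · refine (gp_of_isPullback hsq₀ _).1 ((hgf _).1 ?_)
    rw [hV.fromSpec_primeIdealOf]
    exact hx

end GeomPtIntLib
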